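import Cfsg.Agent.Lib.Fi24.Data.TableA
import Cfsg.Agent.Lib.Fi24.Data.TableB
import Cfsg.Agent.Lib.Fi24.Data.TableC
import Cfsg.Agent.Lib.Fi24.Data.TableD

/-! Certificate data for the presented Fi24. -/

set_option autoImplicit false

namespace Cfsg.Agent.Lib.Fi24

open Cfsg.Agent.Lib.CosetEnum (PTree)

/-- The data. -/
noncomputable def table : PTree :=
  .node 153600 (.node 76800 tableA tableB) (.node 230400 tableC tableD)

end Cfsg.Agent.Lib.Fi24
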